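import Mathlib

/-!
# Base change of short exact sequences with flat cokernel along a pushout of rings
-/

set_option autoImplicit false
set_option linter.style.haveILetI false
universe u

open TensorProduct Function

namespace Groth.Agent.H70.PdFibre

section flat

variable {R : Type*} [CommRing R] {M' M M'' : Type*} [AddCommGroup M'] [AddCommGroup M]
  [AddCommGroup M''] [Module R M'] [Module R M] [Module R M'']

/-- the kernel of a surjection of flat modules is flat -/
theorem flat_of_exact_left (f : M' →ₗ[R] M) (g : M →ₗ[R] M'') (hf : Injective f)
    (hg : Surjective g) (H : Exact f g) [Module.Flat R M] [Module.Flat R M''] :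
    Module.Flat R M' := by
  rw [Module.Flat.iff_rTensor_preserves_injective_linearMap]
  intro N₁ N₂ _ _ _ _ i hi
  rw [injective_iff_map_eq_zero]
  intro z hz
  -- `f ⊗ N₁` is injective since `M''` is flat
  have hinj : Injective (f.lTensor N₁) :=
    LinearMap.lTensor_injective_of_exact_of_flat g hg f hf H N₁
  apply hinj
  rw [map_zero]
  apply Module.Flat.rTensor_preserves_injective_linearMap (M := M) i hi
  rw [map_zero]
  have : (i.rTensor M) (f.lTensor N₁ z) = f.lTensor N₂ (i.rTensor M' z) := by
    rw [← LinearMap.comp_apply, ← LinearMap.comp_apply, LinearMap.rTensor_comp_lTensor,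
      LinearMap.lTensor_comp_rTensor]
  rw [this, hz, map_zero]

theorem flat_finsupp (ι : Type*) (P : Type*) [AddCommGroup P] [Module R P] [Module.Flat R P] :
    Module.Flat R (ι →₀ P) := by
  classical exact Module.Flat.of_linearEquiv (finsuppLEquivDirectSum R P ι)

end flat

section pushout

variable (R S A B : Type u) [CommRing R] [CommRing S] [CommRing A] [CommRing B]
  [Algebra R S] [Algebra R A] [Algebra R B] [Algebra A B] [Algebra S B]
  [IsScalarTower R A B] [IsScalarTower R S B] [Algebra.IsPushout R S A B]
variable {M M' M'' : Type u} [AddCommGroup M] [Module R M] [Module A M] [IsScalarTower R A M]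
  [AddCommGroup M'] [Module R M'] [Module A M'] [IsScalarTower R A M']
  [AddCommGroup M''] [Module R M''] [Module A M''] [IsScalarTower R A M'']

theorem baseChange_cancelBaseChange_symm (φ : M →ₗ[A] M') (z : S ⊗[R] M) :
    (φ.baseChange B) ((Algebra.IsPushout.cancelBaseChange R S A B M).symm z) =
      (Algebra.IsPushout.cancelBaseChange R S A B M').symm
        (((φ.restrictScalars R).lTensor S) z) := by
  induction z using TensorProduct.induction_on with
  | zero => simp
  | tmul s m => simp
  | add x y hx hy => simp only [map_add, hx, hy]

theorem baseChange_injective_iff (φ : M →ₗ[A] M') :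
    Injective (φ.baseChange B) ↔ Injective ((φ.restrictScalars R).lTensor S) := by
  let e := Algebra.IsPushout.cancelBaseChange R S A B M
  let e' := Algebra.IsPushout.cancelBaseChange R S A B M'
  have hcomm : ∀ z, (φ.baseChange B) (e.symm z) = e'.symm (((φ.restrictScalars R).lTensor S) z) :=
    baseChange_cancelBaseChange_symm R S A B φ
  constructor
  · intro h x y hxy
    apply e.symm.injective
    apply h
    rw [hcomm, hcomm, hxy]
  · intro h x y hxy
    obtain ⟨x, rfl⟩ := e.symm.surjective x
    obtain ⟨y, rfl⟩ := e.symm.surjective y
    rw [hcomm, hcomm] at hxy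
    rw [h (e'.symm.injective hxy)]

include S in
/-- Base change along a pushout keeps a short exact sequence with `R`-flat cokernel left exact. -/
theorem baseChange_injective_of_flat (i : M →ₗ[A] M') (π : M' →ₗ[A] M'') (hi : Injective i)
    (hπ : Surjective π) (hex : Exact i π) [Module.Flat R M''] :
    Injective (i.baseChange B) := by
  rw [baseChange_injective_iff R S A B]
  exact LinearMap.lTensor_injective_of_exact_of_flat (π.restrictScalars R) hπ
    (i.restrictScalars R) hi hex S

omit [Algebra S B] [IsScalarTower R S B] [Algebra.IsPushout R S A B] [Algebra R S]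
  [Algebra R A] [Algebra R B] [IsScalarTower R A B] [Module R M] [IsScalarTower R A M]
  [Module R M'] [IsScalarTower R A M'] [Module R M''] [IsScalarTower R A M''] in
theorem baseChange_surjective (π : M' →ₗ[A] M'') (hπ : Surjective π) :
    Surjective (π.baseChange B) := by
  rw [LinearMap.baseChange_eq_ltensor]
  exact LinearMap.lTensor_surjective B hπ

omit [Algebra S B] [IsScalarTower R S B] [Algebra.IsPushout R S A B] [Algebra R S]
  [Algebra R A] [Algebra R B] [IsScalarTower R A B] [Module R M] [IsScalarTower R A M]
  [Module R M'] [IsScalarTower R A M'] [Module R M''] [IsScalarTower R A M''] in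
theorem baseChange_exact (i : M →ₗ[A] M') (π : M' →ₗ[A] M'') (hπ : Surjective π)
    (hex : Exact i π) : Exact (i.baseChange B) (π.baseChange B) := by
  have := lTensor_exact B hex hπ
  intro y
  rw [LinearMap.baseChange_eq_ltensor, this y]
  rfl

end pushout

end Groth.Agent.H70.PdFibre
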