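import Mathlib
import Groth.Agent.H17.PdBaseChange
import Groth.Agent.H70.PdFibre.Inj

/-!
# Projective dimension does not increase on fibres (for modules flat over the base)
-/

set_option autoImplicit false
set_option linter.style.haveILetI false
universe u

open TensorProduct Function CategoryTheory

namespace Groth.Agent.H70.PdFibre

open Groth.Agent.H17.PdBC

section GE

variable (A κ B C : Type u) [CommRing A] [CommRing κ] [CommRing B] [CommRing C]
  [Algebra A κ] [Algebra A B] [Algebra A C] [Algebra B C] [Algebra κ C]
  [IsScalarTower A B C] [IsScalarTower A κ C] [Algebra.IsPushout A κ B C]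

include κ in
/-- If `C = κ ⊗[A] B` with `B` flat over `A`, then for `B`-modules `X` flat over `A`,
`pd_C (C ⊗[B] X) ≤ pd_B X`. -/
theorem hasProjectiveDimensionLT_fibre [Module.Flat A B] :
    ∀ (n : ℕ) (X : Type u) [AddCommGroup X] [Module B X] [Module A X] [IsScalarTower A B X]
      [Module.Flat A X],
      HasProjectiveDimensionLT (ModuleCat.of B X) (n + 1) →
      HasProjectiveDimensionLT (ModuleCat.of C (C ⊗[B] X)) (n + 1) := by
  intro n
  induction n with
  | zero =>
    intro X _ _ _ _ _ h
    rw [zero_add, ← projective_iff_hasProjectiveDimensionLT_one] at h ⊢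
    have hproj : Module.Projective B X := (IsProjective.iff_projective _).mpr h
    exact (IsProjective.iff_projective _).mp inferInstance
  | succ n ih =>
    intro X _ _ _ _ _ h
    let g : (X →₀ B) →ₗ[B] X := Finsupp.linearCombination B id
    have hg : Surjective g := Finsupp.linearCombination_id_surjective B X
    let K := LinearMap.ker g
    have hexact : Exact K.subtype g := LinearMap.exact_subtype_ker_map g
    have hinj : Injective K.subtype := Subtype.val_injective
    have hS := shortExact_of_exact (A := B) (M₁ := K) K.subtype g hinj hg hexact
    have hproj : Projective (ModuleCat.of B (X →₀ B)) :=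
      (IsProjective.iff_projective _).mp inferInstance
    haveI : Module.Flat A (X →₀ B) := flat_finsupp X B
    haveI : Module.Flat A K :=
      flat_of_exact_left (R := A) (M' := K) (M := X →₀ B) (M'' := X)
        (K.subtype.restrictScalars A) (g.restrictScalars A) hinj hg hexact
    have hinj' := baseChange_injective_of_flat A κ B C (M := K) (M' := X →₀ B) (M'' := X)
        K.subtype g hinj hg hexact
    have hsurj' := baseChange_surjective B C (M' := X →₀ B) (M'' := X) g hg
    have hexact' := baseChange_exact B C (M := K) (M' := X →₀ B) (M'' := X) K.subtype g hg hexact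
    have hS' := shortExact_of_exact (A := C) (M₁ := C ⊗[B] K) (K.subtype.baseChange C)
      (g.baseChange C) hinj' hsurj' hexact'
    have hproj' : Projective (ModuleCat.of C (C ⊗[B] (X →₀ B))) :=
      (IsProjective.iff_projective _).mp inferInstance
    have hK : HasProjectiveDimensionLT (ModuleCat.of B K) (n + 1) :=
      (hS.hasProjectiveDimensionLT_X₃_iff n hproj).mp h
    have hK' := ih K hK
    exact (hS'.hasProjectiveDimensionLT_X₃_iff n hproj').mpr hK'

end GE

end Groth.Agent.H70.PdFibre
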