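import Mathlib
import Groth.Agent.H47.IntModel
import Groth.Agent.H70.PdFibre.Inj

/-!
# Finitely presented first syzygies for finitely presented modules flat over the base

`A → B` of finite presentation, `X` a finitely presented `B`-module flat over `A`.  Then `X` has a
presentation `0 → K → B^r → X → 0` with `K` finitely presented (via a Noetherian flat model).
-/

set_option autoImplicit false
set_option linter.style.haveILetI false
universe u

open TensorProduct Function

namespace Groth.Agent.H70.PdFibre

theorem exists_fp_syzygy (H : Groth.Agent.H47.IntModel.Descent4848.{u})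
    (A B X : Type u) [CommRing A] [CommRing B] [Algebra A B] [Algebra.FinitePresentation A B]
    [AddCommGroup X] [Module B X] [Module A X] [IsScalarTower A B X]
    [Module.FinitePresentation B X] [Module.Flat A X] :
    ∃ (r : ℕ) (K : Type u) (_ : AddCommGroup K) (_ : Module B K) (i : K →ₗ[B] (Fin r → B))
      (π : (Fin r → B) →ₗ[B] X), Injective i ∧ Surjective π ∧ Exact i π ∧
        Module.FinitePresentation B K := by
  obtain ⟨R₀, _, _, S₀, _, _, _, _, _, _, M₀, _, _, _, _, _, _, f, hft, hftS, hfin, hflat, hpo,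
    hbc⟩ := Groth.Agent.H47.IntModel.main H A B X
  haveI : IsNoetherianRing R₀ := Algebra.FiniteType.isNoetherianRing ℤ R₀
  haveI : IsNoetherianRing S₀ := Algebra.FiniteType.isNoetherianRing R₀ S₀
  obtain ⟨r, π₀, hπ₀⟩ := Module.Finite.exists_fin' S₀ M₀
  let K₀ := LinearMap.ker π₀
  haveI : Module.Finite S₀ K₀ := inferInstance
  haveI : Module.FinitePresentation S₀ K₀ := Module.finitePresentation_of_finite S₀ K₀
  have hex₀ : Exact K₀.subtype π₀ := LinearMap.exact_subtype_ker_map π₀
  have hinj₀ : Injective K₀.subtype := Subtype.val_injective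
  have hinj' := baseChange_injective_of_flat R₀ A S₀ B (M := K₀) (M' := Fin r → S₀) (M'' := M₀)
    K₀.subtype π₀ hinj₀ hπ₀ hex₀
  have hsurj' := baseChange_surjective S₀ B (M' := Fin r → S₀) (M'' := M₀) π₀ hπ₀
  have hex' := baseChange_exact S₀ B (M := K₀) (M' := Fin r → S₀) (M'' := M₀) K₀.subtype π₀ hπ₀
    hex₀
  let e1 : B ⊗[S₀] (Fin r → S₀) ≃ₗ[B] (Fin r → B) := TensorProduct.piScalarRight S₀ B B (Fin r)
  let e2 : B ⊗[S₀] M₀ ≃ₗ[B] X := hbc.equiv
  refine ⟨r, B ⊗[S₀] K₀, inferInstance, inferInstance,
    e1.toLinearMap ∘ₗ (K₀.subtype.baseChange B),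
    e2.toLinearMap ∘ₗ (π₀.baseChange B) ∘ₗ e1.symm.toLinearMap, ?_, ?_, ?_, inferInstance⟩
  · exact e1.injective.comp hinj'
  · exact e2.surjective.comp (hsurj'.comp e1.symm.surjective)
  · intro y
    constructor
    · intro hy
      have hy' : (π₀.baseChange B) (e1.symm y) = 0 := by
        apply e2.injective
        rw [map_zero]
        exact hy
      obtain ⟨z, hz⟩ := (hex' (e1.symm y)).mp hy'
      refine ⟨z, ?_⟩
      simp only [LinearMap.coe_comp, LinearEquiv.coe_coe, Function.comp_apply, hz,
        LinearEquiv.apply_symm_apply]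
    · rintro ⟨z, rfl⟩
      simp only [LinearMap.coe_comp, LinearEquiv.coe_coe, Function.comp_apply,
        LinearEquiv.symm_apply_apply]
      rw [(hex' _).mpr ⟨z, rfl⟩, map_zero]

end Groth.Agent.H70.PdFibre
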