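import Mathlib
import Groth.Agent.H70.PdFibre.GE
import Groth.Agent.H70.PdFibre.Syzygy
import Groth.Agent.H70.FibProj.Main

/-!
# Projective dimension is detected on the fibres (finitely presented, flat over the base)
-/

set_option autoImplicit false
set_option linter.style.haveILetI false
universe u

open TensorProduct Function CategoryTheory

namespace Groth.Agent.H70.PdFibre

open Groth.Agent.H17.PdBC

attribute [local instance] Algebra.TensorProduct.rightAlgebra

variable (A B : Type u) [CommRing A] [CommRing B] [Algebra A B] [Algebra.FinitePresentation A B]
  [Module.Flat A B]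

theorem hasProjectiveDimensionLT_of_fibres (H : Groth.Agent.H47.IntModel.Descent4848.{u}) :
    ∀ (n : ℕ) (X : Type u) [AddCommGroup X] [Module B X] [Module A X] [IsScalarTower A B X]
      [Module.FinitePresentation B X] [Module.Flat A X],
      (∀ (p : Ideal A) [p.IsPrime], HasProjectiveDimensionLT
        (ModuleCat.of (B ⊗[A] p.ResidueField) ((B ⊗[A] p.ResidueField) ⊗[B] X)) (n + 1)) →
      HasProjectiveDimensionLT (ModuleCat.of B X) (n + 1) := by
  intro n
  induction n with
  | zero =>
    intro X _ _ _ _ _ _ h
    rw [zero_add, ← projective_iff_hasProjectiveDimensionLT_one]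
    have hfl : Module.Flat B X := by
      rw [Groth.Agent.H70.FibProj.flat_iff_fibre_projective A B X]
      intro p _
      have := h p
      rw [zero_add, ← projective_iff_hasProjectiveDimensionLT_one] at this
      exact (IsProjective.iff_projective _).mpr this
    haveI : Module.Projective B X := Module.Flat.projective_of_finitePresentation
    exact (IsProjective.iff_projective _).mp inferInstance
  | succ n ih =>
    intro X _ _ _ _ _ _ h
    obtain ⟨r, K, _, _, i, π, hi, hπ, hex, hKfp⟩ := exists_fp_syzygy H A B X
    letI : Module A K := Module.compHom K (algebraMap A B)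
    haveI : IsScalarTower A B K := IsScalarTower.of_algebraMap_smul fun _ _ => rfl
    haveI : Module.Flat A (Fin r →₀ B) := flat_finsupp (Fin r) B
    haveI : Module.Flat A (Fin r → B) :=
      Module.Flat.of_linearEquiv (Finsupp.linearEquivFunOnFinite A B (Fin r)).symm
    haveI : Module.Flat A K :=
      flat_of_exact_left (R := A) (M' := K) (M := Fin r → B) (M'' := X)
        (i.restrictScalars A) (π.restrictScalars A) hi hπ hex
    have hS := shortExact_of_exact (A := B) (M₁ := K) i π hi hπ hex
    have hproj : Projective (ModuleCat.of B (Fin r → B)) :=
      (IsProjective.iff_projective _).mp inferInstance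
    refine (hS.hasProjectiveDimensionLT_X₃_iff n hproj).mpr ?_
    apply ih K
    intro p _
    let C := B ⊗[A] p.ResidueField
    have hinj' := baseChange_injective_of_flat A p.ResidueField B C (M := K) (M' := Fin r → B)
      (M'' := X) i π hi hπ hex
    have hsurj' := baseChange_surjective B C (M' := Fin r → B) (M'' := X) π hπ
    have hex' := baseChange_exact B C (M := K) (M' := Fin r → B) (M'' := X) i π hπ hex
    have hS' := shortExact_of_exact (A := C) (M₁ := C ⊗[B] K) (i.baseChange C) (π.baseChange C)
      hinj' hsurj' hex'
    have hproj' : Projective (ModuleCat.of C (C ⊗[B] (Fin r → B))) :=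
      (IsProjective.iff_projective _).mp inferInstance
    exact (hS'.hasProjectiveDimensionLT_X₃_iff n hproj').mp (h p)

end Groth.Agent.H70.PdFibre
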