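import Mathlib
import Groth.Agent.H70.PdFibre.LE

/-!
# `pd_B M = sup_p pd (fibre of M at p)` (EGA IV 11.3.?; S5930)
-/

set_option autoImplicit false
set_option linter.style.haveILetI false
universe u

open TensorProduct Function CategoryTheory

namespace Groth.Agent.H70.PdFibre

open Groth.Agent.H17.PdBC

attribute [local instance] Algebra.TensorProduct.rightAlgebra

section Zero

variable (A B : Type u) [CommRing A] [CommRing B] [Algebra A B]

/-- A finite module all of whose fibres over the base vanish is zero. -/
theorem subsingleton_of_fibres (X : Type u) [AddCommGroup X] [Module B X] [Module.Finite B X]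
    (h : ∀ (p : Ideal A) [p.IsPrime],
      Subsingleton ((B ⊗[A] p.ResidueField) ⊗[B] X)) : Subsingleton X := by
  rw [← Module.support_eq_empty_iff (R := B)]
  rw [Set.eq_empty_iff_forall_notMem]
  intro q
  rw [Module.mem_support_iff_nontrivial_residueField_tensorProduct, not_nontrivial_iff_subsingleton]
  let p : Ideal A := q.asIdeal.comap (algebraMap A B)
  let k := q.asIdeal.ResidueField
  let F := B ⊗[A] p.ResidueField
  let g : p.ResidueField →ₐ[A] k := Ideal.ResidueField.mapₐ p q.asIdeal (Algebra.ofId A B) rfl
  let θ : F →ₐ[B] k := Algebra.TensorProduct.lift (Algebra.ofId B k) g (fun _ _ => mul_comm _ _)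
  letI : Algebra F k := θ.toRingHom.toAlgebra
  haveI : IsScalarTower B F k := IsScalarTower.of_algebraMap_eq fun b => (θ.commutes b).symm
  haveI := h p
  let e : k ⊗[F] (F ⊗[B] X) ≃ₗ[k] k ⊗[B] X :=
    TensorProduct.AlgebraTensorModule.cancelBaseChange B F k k X
  exact e.symm.toEquiv.subsingleton

end Zero

section Main

variable (A B M : Type u) [CommRing A] [CommRing B] [Algebra A B]
  [Algebra.FinitePresentation A B] [Module.Flat A B] [AddCommGroup M] [Module B M] [Module A M]
  [IsScalarTower A B M] [Module.FinitePresentation B M] [Module.Flat A M]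

theorem projectiveDimension_eq_iSup_fibre (H : Groth.Agent.H47.IntModel.Descent4848.{u}) :
    projectiveDimension (ModuleCat.of B M) =
      ⨆ p : PrimeSpectrum A, projectiveDimension
        (ModuleCat.of (B ⊗[A] p.asIdeal.ResidueField)
          ((B ⊗[A] p.asIdeal.ResidueField) ⊗[B] M)) := by
  apply le_antisymm
  · apply le_of_forall_nat_lt
    intro n hn
    rw [projectiveDimension_lt_iff]
    have hp : ∀ p : PrimeSpectrum A, HasProjectiveDimensionLT
        (ModuleCat.of (B ⊗[A] p.asIdeal.ResidueField)
          ((B ⊗[A] p.asIdeal.ResidueField) ⊗[B] M)) n := by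
      intro p
      rw [← projectiveDimension_lt_iff]
      exact lt_of_le_of_lt (le_iSup (fun p : PrimeSpectrum A => projectiveDimension
        (ModuleCat.of (B ⊗[A] p.asIdeal.ResidueField)
          ((B ⊗[A] p.asIdeal.ResidueField) ⊗[B] M))) p) hn
    cases n with
    | zero =>
      rw [hasProjectiveDimensionLT_zero_iff_isZero, ModuleCat.isZero_iff_subsingleton]
      change Subsingleton M
      apply subsingleton_of_fibres A B M
      intro p _
      have := hp ⟨p, inferInstance⟩
      rw [hasProjectiveDimensionLT_zero_iff_isZero, ModuleCat.isZero_iff_subsingleton] at this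
      exact this
    | succ n =>
      apply hasProjectiveDimensionLT_of_fibres A B H n M
      intro p _
      exact hp ⟨p, inferInstance⟩
  · apply iSup_le
    intro p
    apply le_of_forall_nat_lt
    intro n hn
    rw [projectiveDimension_lt_iff] at hn ⊢
    cases n with
    | zero =>
      rw [hasProjectiveDimensionLT_zero_iff_isZero, ModuleCat.isZero_iff_subsingleton] at hn ⊢
      change Subsingleton M at hn
      change Subsingleton ((B ⊗[A] p.asIdeal.ResidueField) ⊗[B] M)
      infer_instance
    | succ n =>
      exact hasProjectiveDimensionLT_fibre A p.asIdeal.ResidueField B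
        (B ⊗[A] p.asIdeal.ResidueField) n M hn

end Main

end Groth.Agent.H70.PdFibre
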