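import Mathlib
import Groth.Agent.H70.PdFibre.Syzygy

/-!
# Kernels of surjections onto finitely presented modules flat over the base are finitely presented
-/

set_option autoImplicit false
set_option linter.style.haveILetI false
universe u

open TensorProduct Function

namespace Groth.Agent.H70.PdFibre

section Schanuel

variable {R : Type u} [CommRing R] {F F' H : Type u} [AddCommGroup F] [Module R F]
  [AddCommGroup F'] [Module R F'] [AddCommGroup H] [Module R H]

/-- Schanuel-type lemma: if one presentation `F' → H` by a finitely presented projective module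
has finitely presented kernel, then so has every other one. -/
theorem finitePresentation_ker_of_finitePresentation_ker
    [Module.FinitePresentation R F] [Module.Projective R F]
    [Module.FinitePresentation R F'] [Module.Projective R F']
    (π : F →ₗ[R] H) (π' : F' →ₗ[R] H) (hπ : Surjective π) (hπ' : Surjective π')
    [Module.FinitePresentation R (LinearMap.ker π')] :
    Module.FinitePresentation R (LinearMap.ker π) := by
  -- the pullback `L = {(x, x') | π x = π' x'}`
  let L : Submodule R (F × F') := LinearMap.ker (π.coprod (-π'))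
  have hL : ∀ z : F × F', z ∈ L ↔ π z.1 = π' z.2 := by
    intro z
    simp only [L, LinearMap.mem_ker, LinearMap.coprod_apply, LinearMap.neg_apply]
    rw [← sub_eq_add_neg, sub_eq_zero]
  let p1 : L →ₗ[R] F := (LinearMap.fst R F F').comp L.subtype
  let p2 : L →ₗ[R] F' := (LinearMap.snd R F F').comp L.subtype
  have hp1 : Surjective p1 := by
    intro x
    obtain ⟨x', hx'⟩ := hπ' (π x)
    exact ⟨⟨(x, x'), (hL _).mpr hx'.symm⟩, rfl⟩
  have hp2 : Surjective p2 := by
    intro x'
    obtain ⟨x, hx⟩ := hπ (π' x')
    exact ⟨⟨(x, x'), (hL _).mpr hx⟩, rfl⟩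
  -- `ker p1 ≃ ker π'`
  let e1 : LinearMap.ker π' ≃ₗ[R] LinearMap.ker p1 :=
    { toFun := fun y => ⟨⟨(0, y.1), (hL _).mpr (by simp [(LinearMap.mem_ker.mp y.2)])⟩, by
        simp [p1]⟩
      map_add' := fun a b => by ext <;> simp
      map_smul' := fun r a => by ext <;> simp
      invFun := fun z => ⟨z.1.1.2, by
        have h1 : z.1.1.1 = 0 := LinearMap.mem_ker.mp z.2
        have h2 := (hL z.1.1).mp z.1.2
        rw [h1, map_zero] at h2
        exact LinearMap.mem_ker.mpr h2.symm⟩
      left_inv := fun y => by ext; rfl
      right_inv := fun z => by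
        have h1 : z.1.1.1 = 0 := LinearMap.mem_ker.mp z.2
        ext
        · exact h1.symm
        · rfl }
  haveI : Module.FinitePresentation R (LinearMap.ker p1) :=
    Module.FinitePresentation.of_equiv (R := R) (M := LinearMap.ker π') (N := LinearMap.ker p1) e1
  haveI : Module.FinitePresentation R L := Module.finitePresentation_of_ker p1 hp1
  -- `0 → ker π → L → F' → 0`
  let i : LinearMap.ker π →ₗ[R] L :=
    { toFun := fun y => ⟨(y.1, 0), (hL _).mpr (by simp [(LinearMap.mem_ker.mp y.2)])⟩
      map_add' := fun a b => by ext <;> simp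
      map_smul' := fun r a => by ext <;> simp }
  have hi : Injective i := by
    intro a b hab
    have := congrArg (fun z : L => z.1.1) hab
    exact Subtype.ext this
  have hex : Exact i p2 := by
    intro z
    constructor
    · intro hz
      have h2 : z.1.2 = 0 := hz
      have h1 := (hL z.1).mp z.2
      rw [h2, map_zero] at h1
      refine ⟨⟨z.1.1, LinearMap.mem_ker.mpr h1⟩, ?_⟩
      ext
      · rfl
      · exact h2.symm
    · rintro ⟨y, rfl⟩
      rfl
  exact Module.finitePresentation_of_projective_of_exact i p2 hi hp2 hex

end Schanuel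

section KerFP

/-- `A → B` of finite presentation, `φ : G → H` a surjection of finitely presented `B`-modules
with `H` flat over `A`: then `ker φ` is finitely presented. -/
theorem finitePresentation_ker_of_flat (Hd : Groth.Agent.H47.IntModel.Descent4848.{u})
    (A B : Type u) [CommRing A] [CommRing B] [Algebra A B] [Algebra.FinitePresentation A B]
    (G H : Type u) [AddCommGroup G] [Module B G] [Module.FinitePresentation B G]
    [AddCommGroup H] [Module B H] [Module A H] [IsScalarTower A B H]
    [Module.FinitePresentation B H] [Module.Flat A H]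
    (φ : G →ₗ[B] H) (hφ : Surjective φ) :
    Module.FinitePresentation B (LinearMap.ker φ) := by
  obtain ⟨r', K', _, _, i', π', hi', hπ', hex', hK'fp⟩ := exists_fp_syzygy Hd A B H
  haveI : Module.FinitePresentation B (LinearMap.ker π') := by
    have hrange : LinearMap.range i' = LinearMap.ker π' := (LinearMap.exact_iff.mp hex').symm
    exact Module.FinitePresentation.of_equiv (R := B) (M := K') (N := LinearMap.ker π')
      ((LinearEquiv.ofInjective i' hi').trans (LinearEquiv.ofEq _ _ hrange))
  obtain ⟨r, σ, hσ⟩ := Module.Finite.exists_fin' B G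
  let π : (Fin r → B) →ₗ[B] H := φ ∘ₗ σ
  have hπ : Surjective π := hφ.comp hσ
  haveI : Module.FinitePresentation B (LinearMap.ker π) :=
    finitePresentation_ker_of_finitePresentation_ker π π' hπ hπ'
  let ρ : LinearMap.ker π →ₗ[B] LinearMap.ker φ :=
    (σ.comp (LinearMap.ker π).subtype).codRestrict (LinearMap.ker φ) (fun x => by
      have := x.2
      rw [LinearMap.mem_ker] at this ⊢
      exact this)
  have hρ : Surjective ρ := by
    rintro ⟨y, hy⟩
    obtain ⟨x, rfl⟩ := hσ y
    exact ⟨⟨x, hy⟩, rfl⟩
  refine Module.finitePresentation_of_surjective ρ hρ ?_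
  apply Submodule.fg_of_fg_map_injective (LinearMap.ker π).subtype Subtype.val_injective
  have hker : (LinearMap.ker ρ).map (LinearMap.ker π).subtype = LinearMap.ker σ := by
    ext x
    constructor
    · rintro ⟨z, hz, rfl⟩
      have := congrArg Subtype.val (LinearMap.mem_ker.mp hz)
      exact LinearMap.mem_ker.mpr this
    · intro hx
      have hx0 : σ x = 0 := LinearMap.mem_ker.mp hx
      have hxπ : x ∈ LinearMap.ker π := by
        rw [LinearMap.mem_ker]
        change φ (σ x) = 0
        rw [hx0, map_zero]
      refine ⟨⟨x, hxπ⟩, ?_, rfl⟩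
      change (⟨x, hxπ⟩ : LinearMap.ker π) ∈ LinearMap.ker ρ
      rw [LinearMap.mem_ker]
      exact Subtype.ext hx0
  rw [hker]
  exact Module.FinitePresentation.fg_ker σ hσ

end KerFP

end Groth.Agent.H70.PdFibre
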