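import Mathlib

/-!
# `B ⧸ pB` is the pushout `(A ⧸ p) ⊗[A] B`; naturality of `cancelBaseChange`
-/

set_option autoImplicit false
set_option linter.style.haveILetI false
universe u

open TensorProduct Function

namespace Groth.Agent.H70.PdFibre

section quot

variable (A B : Type u) [CommRing A] [CommRing B] [Algebra A B] (p : Ideal A)

/-- `(A ⧸ p) ⊗[A] B ≃ B ⧸ pB`, `A`-linearly. -/
noncomputable def quotTensorEquivQuotMap :
    (A ⧸ p) ⊗[A] B ≃ₗ[A] B ⧸ p.map (algebraMap A B) :=
  TensorProduct.quotTensorEquivQuotSMul B p ≪≫ₗ
    Submodule.quotEquivOfEq _ _ (Ideal.smul_top_eq_map p) ≪≫ₗ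
    Submodule.Quotient.restrictScalarsEquiv A (p.map (algebraMap A B))

theorem quotTensorEquivQuotMap_one_tmul (x : B) :
    quotTensorEquivQuotMap A B p (1 ⊗ₜ x) = Ideal.Quotient.mk _ x := by
  simp [quotTensorEquivQuotMap]

instance isPushout_quotient : Algebra.IsPushout A (A ⧸ p) B (B ⧸ p.map (algebraMap A B)) := by
  constructor
  let e := (quotTensorEquivQuotMap A B p).extendScalarsOfSurjective
    (S := A ⧸ p) Ideal.Quotient.mk_surjective
  refine IsBaseChange.of_equiv e ?_
  intro x
  exact quotTensorEquivQuotMap_one_tmul A B p x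

end quot

section cancel

variable (B B' D : Type u) [CommRing B] [CommRing B'] [CommRing D] [Algebra B B'] [Algebra B' D]
  [Algebra B D] [IsScalarTower B B' D]
  {Y Y' : Type u} [AddCommGroup Y] [Module B Y] [AddCommGroup Y'] [Module B Y']

/-- naturality of `cancelBaseChange` -/
theorem cancelBaseChange_baseChange (φ : Y →ₗ[B] Y') (z : D ⊗[B'] (B' ⊗[B] Y)) :
    (φ.baseChange D) (TensorProduct.AlgebraTensorModule.cancelBaseChange B B' D D Y z) =
      TensorProduct.AlgebraTensorModule.cancelBaseChange B B' D D Y'
        (((φ.baseChange B').baseChange D) z) := by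
  induction z using TensorProduct.induction_on with
  | zero => simp
  | add x y hx hy => simp only [map_add, hx, hy]
  | tmul d w =>
    induction w using TensorProduct.induction_on with
    | zero => simp
    | add x y hx hy => simp only [tmul_add, map_add, hx, hy]
    | tmul b y => simp

theorem baseChange_injective_of_baseChange_baseChange (φ : Y →ₗ[B] Y')
    (h : Injective ((φ.baseChange B').baseChange D)) : Injective (φ.baseChange D) := by
  let e := TensorProduct.AlgebraTensorModule.cancelBaseChange B B' D D Y
  let e' := TensorProduct.AlgebraTensorModule.cancelBaseChange B B' D D Y'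
  intro x y hxy
  obtain ⟨x, rfl⟩ := e.surjective x
  obtain ⟨y, rfl⟩ := e.surjective y
  rw [cancelBaseChange_baseChange, cancelBaseChange_baseChange] at hxy
  rw [h (e'.injective hxy)]

end cancel

end Groth.Agent.H70.PdFibre
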