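import Mathlib
import Groth.Agent.H70.PdFibre.LE
import Groth.Agent.H70.PdFibre.QuotPushout

/-!
# Upper semicontinuity of the projective dimension of the fibre stalks (S19197)
-/

set_option autoImplicit false
set_option linter.style.haveILetI false
universe u

open TensorProduct Function CategoryTheory

namespace Groth.Agent.H70.PdFibre

open Groth.Agent.H17.PdBC

section perPrime

variable (A B : Type u) [CommRing A] [CommRing B] [Algebra A B] (P : Ideal B) [P.IsPrime]

/-- the local ring of the fibre at `P` -/
abbrev FibLoc : Type u :=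
  Localization.AtPrime P ⧸ (P.under A).map (algebraMap A (Localization.AtPrime P))

theorem map_under_le_maximalIdeal :
    (P.under A).map (algebraMap A (Localization.AtPrime P)) ≤
      IsLocalRing.maximalIdeal (Localization.AtPrime P) := by
  rw [Ideal.map_le_iff_le_comap]
  intro a ha
  rw [Ideal.mem_comap, IsScalarTower.algebraMap_apply A B (Localization.AtPrime P)]
  exact (IsLocalization.AtPrime.to_map_mem_maximal_iff (Localization.AtPrime P) P _).mpr ha

instance : Nontrivial (FibLoc A B P) := Ideal.Quotient.nontrivial_iff.mpr
  (fun h => (IsLocalRing.maximalIdeal.isMaximal (Localization.AtPrime P)).ne_top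
    (top_le_iff.mp (h ▸ map_under_le_maximalIdeal A B P)))

instance : IsLocalRing (FibLoc A B P) :=
  IsLocalRing.of_surjective' (Ideal.Quotient.mk _) Ideal.Quotient.mk_surjective

variable (X : Type u) [AddCommGroup X] [Module B X]

/-- `D ⊗[B] X ≃ D ⊗[B_P] X_P`. -/
noncomputable def fibLocTensorEquiv :
    (FibLoc A B P) ⊗[B] X ≃ₗ[FibLoc A B P]
      (FibLoc A B P) ⊗[Localization.AtPrime P] (LocalizedModule P.primeCompl X) :=
  (TensorProduct.AlgebraTensorModule.cancelBaseChange B (Localization.AtPrime P) (FibLoc A B P)
    (FibLoc A B P) X).symm ≪≫ₗ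
    (TensorProduct.AlgebraTensorModule.congr (LinearEquiv.refl (FibLoc A B P) (FibLoc A B P))
      (LocalizedModule.equivTensorProduct P.primeCompl X)).symm

end perPrime

section perPrime2

variable (A B : Type u) [CommRing A] [CommRing B] [Algebra A B] (P : Ideal B) [P.IsPrime]
  (X : Type u) [AddCommGroup X] [Module B X]

/-- the fibre stalk vanishes iff the stalk does (Nakayama) -/
theorem subsingleton_fibLoc_tensor_iff [Module.Finite B X] :
    Subsingleton ((FibLoc A B P) ⊗[B] X) ↔ Subsingleton (LocalizedModule P.primeCompl X) := by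
  let B' := Localization.AtPrime P
  let I : Ideal B' := (P.under A).map (algebraMap A B')
  let N := LocalizedModule P.primeCompl X
  rw [(fibLocTensorEquiv A B P X).toEquiv.subsingleton_congr]
  constructor
  · intro h
    have h1 : Subsingleton (N ⧸ (I • ⊤ : Submodule B' N)) :=
      (TensorProduct.quotTensorEquivQuotSMul N I).symm.toEquiv.subsingleton_congr.mpr h
    have h2 : (I • ⊤ : Submodule B' N) = ⊤ := Submodule.Quotient.subsingleton_iff.mp h1
    have hIjac : I ≤ Ideal.jacobson ⊥ := by
      rw [IsLocalRing.jacobson_eq_maximalIdeal ⊥ bot_ne_top]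
      exact map_under_le_maximalIdeal A B P
    have h3 : (⊤ : Submodule B' N) = ⊥ :=
      Submodule.eq_bot_of_le_smul_of_le_jacobson_bot I ⊤ Module.Finite.fg_top
        (le_of_eq h2.symm) hIjac
    exact (Submodule.subsingleton_iff B').mp (subsingleton_iff_bot_eq_top.mp h3.symm)
  · intro h
    infer_instance

end perPrime2

section perPrime3

variable (A B : Type u) [CommRing A] [CommRing B] [Algebra A B] (P : Ideal B) [P.IsPrime]
  (X : Type u) [AddCommGroup X] [Module B X] [Module A X] [IsScalarTower A B X]

/-- the fibre stalk is projective iff the stalk is free -/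
theorem projective_fibLoc_tensor_iff [Module.FinitePresentation B X] [Module.Flat A X] :
    Module.Projective (FibLoc A B P) ((FibLoc A B P) ⊗[B] X) ↔
      Module.Free (Localization.AtPrime P) (LocalizedModule P.primeCompl X) := by
  let B' := Localization.AtPrime P
  let N := LocalizedModule P.primeCompl X
  let D := FibLoc A B P
  constructor
  · intro h
    haveI : Module.Flat A N :=
      Groth.Agent.H1.FlatLocus.flat_of_isLocalizedModule_algebra (R := A) P.primeCompl
        (LocalizedModule.mkLinearMap P.primeCompl X)
    haveI h2 : Module.Projective D (D ⊗[B'] N) :=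
      Module.Projective.of_equiv (fibLocTensorEquiv A B P X)
    haveI : Module.Free D (D ⊗[B'] N) := Module.free_of_flat_of_isLocalRing
    exact Groth.Agent.H70.FibProj.free_of_flat_of_free_quotient_local (A := A) (B' := B') (N := N)
      (P.under A) (map_under_le_maximalIdeal A B P)
  · intro h
    haveI : Module.Projective D (D ⊗[B'] N) := inferInstance
    exact Module.Projective.of_equiv (fibLocTensorEquiv A B P X).symm

end perPrime3

section perPrime4

variable (A B : Type u) [CommRing A] [CommRing B] [Algebra A B] (P : Ideal B) [P.IsPrime]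
  {K F X : Type u} [AddCommGroup K] [Module B K] [Module A K] [IsScalarTower A B K]
  [AddCommGroup F] [Module B F] [Module A F] [IsScalarTower A B F]
  [AddCommGroup X] [Module B X] [Module A X] [IsScalarTower A B X]

/-- base change to the fibre local ring keeps `0 → K → F → X → 0` left exact when `X` is flat over
the base -/
theorem baseChange_fibLoc_injective [Module.Flat A X] (i : K →ₗ[B] F) (π : F →ₗ[B] X)
    (hi : Injective i) (hπ : Surjective π) (hex : Exact i π) :
    Injective (i.baseChange (FibLoc A B P)) := by
  let B' := Localization.AtPrime P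
  apply baseChange_injective_of_baseChange_baseChange B B' (FibLoc A B P) i
  have hi' : Injective (i.baseChange B') := by
    rw [LinearMap.baseChange_eq_ltensor]
    exact Module.Flat.lTensor_preserves_injective_linearMap _ hi
  have hπ' := baseChange_surjective B B' (M' := F) (M'' := X) π hπ
  have hex' := baseChange_exact B B' (M := K) (M' := F) (M'' := X) i π hπ hex
  haveI : Module.Flat A (B' ⊗[B] X) :=
    Groth.Agent.H1.FlatLocus.flat_of_isLocalizedModule_algebra (R := A) P.primeCompl
      (TensorProduct.mk B B' X 1)
  have := baseChange_injective_of_flat A (A ⧸ P.under A) B' (FibLoc A B P)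
    (M := B' ⊗[B] K) (M' := B' ⊗[B] F) (M'' := B' ⊗[B] X)
    (i.baseChange B') (π.baseChange B') hi' hπ' hex'
  exact this

end perPrime4

section Open

variable (A B : Type u) [CommRing A] [CommRing B] [Algebra A B] [Algebra.FinitePresentation A B]
  [Module.Flat A B]

/-- the locus where the fibre stalk has projective dimension `< n + 1` is open -/
theorem isOpen_setOf_hasProjectiveDimensionLT_fibLoc
    (H : Groth.Agent.H47.IntModel.Descent4848.{u}) :
    ∀ (n : ℕ) (X : Type u) [AddCommGroup X] [Module B X] [Module A X] [IsScalarTower A B X]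
      [Module.FinitePresentation B X] [Module.Flat A X],
      IsOpen {P : PrimeSpectrum B | HasProjectiveDimensionLT
        (ModuleCat.of (FibLoc A B P.asIdeal) ((FibLoc A B P.asIdeal) ⊗[B] X)) (n + 1)} := by
  intro n
  induction n with
  | zero =>
    intro X _ _ _ _ _ _
    have : {P : PrimeSpectrum B | HasProjectiveDimensionLT
        (ModuleCat.of (FibLoc A B P.asIdeal) ((FibLoc A B P.asIdeal) ⊗[B] X)) (0 + 1)} =
        Module.freeLocus B X := by
      ext P
      rw [Set.mem_setOf_eq, zero_add, ← projective_iff_hasProjectiveDimensionLT_one,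
        ← IsProjective.iff_projective, Module.mem_freeLocus]
      exact projective_fibLoc_tensor_iff A B P.asIdeal X
    rw [this]
    exact Module.isOpen_freeLocus
  | succ n ih =>
    intro X _ _ _ _ _ _
    obtain ⟨r, K, _, _, i, π, hi, hπ, hex, hKfp⟩ := exists_fp_syzygy H A B X
    letI : Module A K := Module.compHom K (algebraMap A B)
    haveI : IsScalarTower A B K := IsScalarTower.of_algebraMap_smul fun _ _ => rfl
    haveI : Module.Flat A (Fin r →₀ B) := flat_finsupp (Fin r) B
    haveI : Module.Flat A (Fin r → B) :=
      Module.Flat.of_linearEquiv (Finsupp.linearEquivFunOnFinite A B (Fin r)).symm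
    haveI : Module.Flat A K :=
      flat_of_exact_left (R := A) (M' := K) (M := Fin r → B) (M'' := X)
        (i.restrictScalars A) (π.restrictScalars A) hi hπ hex
    have : {P : PrimeSpectrum B | HasProjectiveDimensionLT
        (ModuleCat.of (FibLoc A B P.asIdeal) ((FibLoc A B P.asIdeal) ⊗[B] X)) (n + 1 + 1)} =
        {P : PrimeSpectrum B | HasProjectiveDimensionLT
        (ModuleCat.of (FibLoc A B P.asIdeal) ((FibLoc A B P.asIdeal) ⊗[B] K)) (n + 1)} := by
      ext P
      let D := FibLoc A B P.asIdeal
      have hinj' := baseChange_fibLoc_injective A B P.asIdeal (K := K) (F := Fin r → B) (X := X)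
        i π hi hπ hex
      have hsurj' := baseChange_surjective B D (M' := Fin r → B) (M'' := X) π hπ
      have hex' := baseChange_exact B D (M := K) (M' := Fin r → B) (M'' := X) i π hπ hex
      have hS' := shortExact_of_exact (A := D) (M₁ := D ⊗[B] K) (i.baseChange D) (π.baseChange D)
        hinj' hsurj' hex'
      have hproj' : Projective (ModuleCat.of D (D ⊗[B] (Fin r → B))) :=
        (IsProjective.iff_projective _).mp inferInstance
      exact hS'.hasProjectiveDimensionLT_X₃_iff n hproj'
    rw [this]
    exact ih K

end Open

section Final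

theorem exists_nat_between {a y : WithBot ℕ∞} (h : a < y) :
    ∃ n : ℕ, a < (n : WithBot ℕ∞) ∧ (n : WithBot ℕ∞) ≤ y := by
  induction a using WithBot.recBotCoe with
  | bot =>
    refine ⟨0, by exact_mod_cast WithBot.bot_lt_coe (0 : ℕ∞), ?_⟩
    induction y using WithBot.recBotCoe with
    | bot => exact absurd h (lt_irrefl _)
    | coe y => exact_mod_cast (bot_le : (0 : ℕ∞) ≤ y)
  | coe a =>
    induction a using ENat.recTopCoe with
    | top => exact absurd h (not_lt_of_ge le_top)
    | coe m =>
      refine ⟨m + 1, by exact_mod_cast Nat.lt_succ_self m, ?_⟩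
      induction y using WithBot.recBotCoe with
      | bot => exact absurd h (not_lt_of_ge bot_le)
      | coe y =>
        have h' : (m : ℕ∞) < y := by exact_mod_cast h
        have := Order.add_one_le_of_lt h'
        exact_mod_cast this

variable (A B M : Type u) [CommRing A] [CommRing B] [Algebra A B] [Algebra.FinitePresentation A B]
  [Module.Flat A B] [AddCommGroup M] [Module B M] [Module A M] [IsScalarTower A B M]
  [Module.FinitePresentation B M] [Module.Flat A M]

theorem isOpen_setOf_hasProjectiveDimensionLT_fibLoc' (H : Groth.Agent.H47.IntModel.Descent4848.{u})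
    (n : ℕ) : IsOpen {P : PrimeSpectrum B | HasProjectiveDimensionLT
        (ModuleCat.of (FibLoc A B P.asIdeal) ((FibLoc A B P.asIdeal) ⊗[B] M)) n} := by
  cases n with
  | zero =>
    have : {P : PrimeSpectrum B | HasProjectiveDimensionLT
        (ModuleCat.of (FibLoc A B P.asIdeal) ((FibLoc A B P.asIdeal) ⊗[B] M)) 0} =
        (Module.support B M)ᶜ := by
      ext P
      rw [Set.mem_setOf_eq, hasProjectiveDimensionLT_zero_iff_isZero,
        ModuleCat.isZero_iff_subsingleton, Set.mem_compl_iff, Module.notMem_support_iff]
      exact subsingleton_fibLoc_tensor_iff A B P.asIdeal M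
    rw [this, Module.support_eq_zeroLocus]
    exact (PrimeSpectrum.isClosed_zeroLocus _).isOpen_compl
  | succ n => exact isOpen_setOf_hasProjectiveDimensionLT_fibLoc A B H n M

theorem upperSemicontinuous_fibre_projectiveDimension
    (H : Groth.Agent.H47.IntModel.Descent4848.{u}) :
    UpperSemicontinuous fun P : PrimeSpectrum B => projectiveDimension (ModuleCat.of
      (FibLoc A B P.asIdeal) ((FibLoc A B P.asIdeal) ⊗[B] M)) := by
  rw [upperSemicontinuous_iff_isOpen_preimage]
  intro y
  have : (fun P : PrimeSpectrum B => projectiveDimension (ModuleCat.of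
      (FibLoc A B P.asIdeal) ((FibLoc A B P.asIdeal) ⊗[B] M))) ⁻¹' Set.Iio y =
      ⋃ (n : ℕ) (_ : (n : WithBot ℕ∞) ≤ y), {P : PrimeSpectrum B | HasProjectiveDimensionLT
        (ModuleCat.of (FibLoc A B P.asIdeal) ((FibLoc A B P.asIdeal) ⊗[B] M)) n} := by
    ext P
    simp only [Set.mem_preimage, Set.mem_Iio, Set.mem_iUnion, Set.mem_setOf_eq, exists_prop]
    constructor
    · intro h
      obtain ⟨n, h1, h2⟩ := exists_nat_between h
      exact ⟨n, h2, projectiveDimension_lt_iff.mp h1⟩
    · rintro ⟨n, h2, h1⟩
      exact lt_of_lt_of_le (projectiveDimension_lt_iff.mpr h1) h2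
  rw [this]
  exact isOpen_iUnion fun n => isOpen_iUnion fun _ =>
    isOpen_setOf_hasProjectiveDimensionLT_fibLoc' A B M H n

end Final

end Groth.Agent.H70.PdFibre
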